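import Mathlib

/-!
A lower bound for the commuting probability of a group with a central subgroup of index 24
over which the quotient has a self-centralising normal four subgroup.
-/

set_option autoImplicit false

namespace H50.QuatBound

variable {Q : Type*} [Group Q] [Finite Q]

/-- Pairs of elements one of which is a power of the other: a lower bound from order counts. -/
theorem card_powerPairs_ge (n3 n4 : ℕ) (h3 : n3 ≤ Nat.card {u : Q // orderOf u = 3})
    (h4 : n4 ≤ Nat.card {u : Q // orderOf u = 4}) :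
    3 * Nat.card Q + n3 + 3 * n4 ≤
      Nat.card {p : Q × Q // p.2 ∈ Subgroup.zpowers p.1 ∨ p.1 ∈ Subgroup.zpowers p.2} + 2 := by
  classical
  have := Fintype.ofFinite Q
  let R : Finset (Q × Q) := Finset.univ.filter fun p =>
    p.2 ∈ Subgroup.zpowers p.1 ∨ p.1 ∈ Subgroup.zpowers p.2
  let R1 : Finset (Q × Q) := Finset.univ.filter fun p => p.2 ∈ Subgroup.zpowers p.1
  let A1 : Finset (Q × Q) := ((Finset.univ : Finset Q).erase 1).image fun v => (1, v)
  let A4 : Finset (Q × Q) :=
    ((Finset.univ : Finset Q).filter fun v => orderOf v = 4).image fun v => (v * v, v)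
  have hR : Nat.card {p : Q × Q // p.2 ∈ Subgroup.zpowers p.1 ∨ p.1 ∈ Subgroup.zpowers p.2} =
      R.card := by
    rw [Nat.card_eq_fintype_card, Fintype.card_subtype]
  rw [hR]
  rw [Nat.card_eq_fintype_card (α := {u : Q // orderOf u = 3}), Fintype.card_subtype] at h3
  rw [Nat.card_eq_fintype_card (α := {u : Q // orderOf u = 4}), Fintype.card_subtype] at h4
  rw [Nat.card_eq_fintype_card]
  have hR1 : R1.card = ∑ u : Q, orderOf u := by
    rw [← Fintype.card_subtype, ← Nat.card_eq_fintype_card,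
      Nat.card_congr (Equiv.subtypeProdEquivSigmaSubtype fun u v => v ∈ Subgroup.zpowers u),
      Nat.card_sigma]
    exact Finset.sum_congr rfl fun u _ => Nat.card_zpowers u
  have hA1 : A1.card + 1 = Fintype.card Q := by
    rw [Finset.card_image_of_injective _ (fun a b h => (Prod.ext_iff.1 h).2),
      Finset.card_erase_add_one (Finset.mem_univ _), Finset.card_univ]
  have hA4 : n4 ≤ A4.card := by
    rw [Finset.card_image_of_injective _ (fun a b h => (Prod.ext_iff.1 h).2)]
    exact h4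
  have hsq : ∀ v : Q, orderOf v = 4 → v * v ≠ 1 := fun v hv h => by
    have := orderOf_dvd_of_pow_eq_one (x := v) (n := 2) (by rw [pow_two, h])
    rw [hv] at this
    exact absurd (Nat.le_of_dvd (by norm_num) this) (by norm_num)
  have hd1 : Disjoint A1 A4 := by
    rw [Finset.disjoint_left]
    intro p hp hp'
    obtain ⟨v, -, rfl⟩ := Finset.mem_image.1 hp
    obtain ⟨w, hw, he⟩ := Finset.mem_image.1 hp'
    exact hsq w (Finset.mem_filter.1 hw).2 (Prod.ext_iff.1 he).1
  have hd2 : Disjoint R1 (A1 ∪ A4) := by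
    rw [Finset.disjoint_left]
    intro p hp hp'
    have hp1 := (Finset.mem_filter.1 hp).2
    rcases Finset.mem_union.1 hp' with h | h
    · obtain ⟨v, hv, rfl⟩ := Finset.mem_image.1 h
      rw [Subgroup.zpowers_one_eq_bot, Subgroup.mem_bot] at hp1
      exact (Finset.mem_erase.1 hv).1 hp1
    · obtain ⟨v, hv, rfl⟩ := Finset.mem_image.1 h
      have hv4 := (Finset.mem_filter.1 hv).2
      obtain ⟨k, hk⟩ := Subgroup.mem_zpowers_iff.1 hp1
      simp only at hk
      have h4v : v ^ 4 = 1 := hv4 ▸ pow_orderOf_eq_one v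
      have h2 : (v * v) * (v * v) = 1 := by
        rw [← h4v, pow_succ, pow_succ, pow_two, ← mul_assoc]
      apply hsq v hv4
      calc v * v = (v * v) ^ k * (v * v) ^ k := by rw [hk]
        _ = ((v * v) * (v * v)) ^ k := ((Commute.refl (v * v)).mul_zpow k).symm
        _ = 1 := by rw [h2, one_zpow]
  have hsub : R1 ∪ (A1 ∪ A4) ⊆ R := by
    intro p hp
    refine Finset.mem_filter.2 ⟨Finset.mem_univ _, ?_⟩
    rcases Finset.mem_union.1 hp with h | h
    · exact Or.inl (Finset.mem_filter.1 h).2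
    rcases Finset.mem_union.1 h with h | h
    · obtain ⟨v, -, rfl⟩ := Finset.mem_image.1 h
      exact Or.inr (Subgroup.one_mem _)
    · obtain ⟨v, -, rfl⟩ := Finset.mem_image.1 h
      exact Or.inr (Subgroup.mul_mem _ (Subgroup.mem_zpowers v) (Subgroup.mem_zpowers v))
  have hcard := Finset.card_le_card hsub
  rw [Finset.card_union_of_disjoint hd2, Finset.card_union_of_disjoint hd1, hR1] at hcard
  have hsum : ∑ u : Q, (2 + (if orderOf u = 3 then 1 else 0) + 2 * (if orderOf u = 4 then 1 else 0))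
      ≤ ∑ u : Q, (orderOf u + (if u = 1 then 1 else 0)) := by
    refine Finset.sum_le_sum fun u _ => ?_
    by_cases hu : u = 1
    · subst hu
      simp
    · have h2 : 2 ≤ orderOf u := by
        have h0 : 0 < orderOf u := orderOf_pos u
        have h1 : orderOf u ≠ 1 := fun h => hu (orderOf_eq_one_iff.1 h)
        omega
      rw [if_neg hu]
      split_ifs <;> omega
  rw [Finset.sum_add_distrib, Finset.sum_add_distrib, Finset.sum_add_distrib, ← Finset.mul_sum,
    Finset.sum_boole, Finset.sum_boole, Finset.sum_const, Finset.sum_ite_eq', Finset.card_univ,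
    smul_eq_mul] at hsum
  simp only [Nat.cast_id, Finset.mem_univ, if_true] at hsum
  omega

/-- An element of order three outside a self-centralising four subgroup fixes only `1` in it. -/
theorem eq_one_of_fix (V : Subgroup Q) [V.Normal] (hV : Nat.card V = 4)
    (hexp : ∀ v ∈ V, v * v = 1) (hC : ∀ q : Q, (∀ v ∈ V, q * v = v * q) → q ∈ V) (t : Q)
    (ht3 : t * t * t = 1) (htV : t ∉ V) (v : Q) (hv : v ∈ V) (hfv : t * v * t⁻¹ = v) : v = 1 := by
  classical
  by_contra hv1
  apply htV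
  apply hC
  intro w hw
  by_cases hw1 : w = 1
  · simp [hw1]
  by_cases hwv : w = v
  · subst hwv
    calc t * w = (t * w * t⁻¹) * t := by group
      _ = w * t := by rw [hfv]
  have hvw : v * w ∈ V := mul_mem hv hw
  have hvw1 : v * w ≠ 1 := fun h => hwv (by
    rw [← inv_eq_of_mul_eq_one_right h, inv_eq_of_mul_eq_one_right (hexp v hv)])
  have hall : ∀ u ∈ V, u = 1 ∨ u = v ∨ u = w ∨ u = v * w := by
    intro u hu
    have hS : ({⟨1, one_mem V⟩, ⟨v, hv⟩, ⟨w, hw⟩, ⟨v * w, hvw⟩} : Finset V).card = 4 :=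
      Finset.card_eq_four.2 ⟨_, _, _, _, fun h => hv1 (Subtype.ext_iff.1 h).symm,
        fun h => hw1 (Subtype.ext_iff.1 h).symm, fun h => hvw1 (Subtype.ext_iff.1 h).symm,
        fun h => hwv (Subtype.ext_iff.1 h).symm,
        fun h => hw1 (mul_left_cancel (a := v) (by rw [mul_one]; exact (Subtype.ext_iff.1 h).symm)),
        fun h => hv1 (mul_right_cancel (b := w) (by rw [one_mul]; exact (Subtype.ext_iff.1 h).symm)),
        rfl⟩
    have := Fintype.ofFinite V
    have huniv := Finset.eq_univ_of_card _ (hS.trans (by rw [← Nat.card_eq_fintype_card, hV]))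
    have hmem := huniv ▸ Finset.mem_univ (⟨u, hu⟩ : V)
    simpa [Subtype.ext_iff] using hmem
  have hc : t * w * t⁻¹ ∈ V := Subgroup.Normal.conj_mem inferInstance w hw t
  rcases hall _ hc with h | h | h | h
  · exact absurd (by rw [show w = t⁻¹ * (t * w * t⁻¹) * t by group, h]; group) hw1
  · refine absurd (mul_left_cancel (a := t) (mul_right_cancel (b := t⁻¹) ?_)) hwv
    rw [h, hfv]
  · calc t * w = (t * w * t⁻¹) * t := by group
      _ = w * t := by rw [h]
  · have h2 : t * (t * w * t⁻¹) * t⁻¹ = w := by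
      rw [h, show t * (v * w) * t⁻¹ = (t * v * t⁻¹) * (t * w * t⁻¹) by group, hfv, h,
        ← mul_assoc, hexp v hv, one_mul]
    have h3 : t * (t * (t * w * t⁻¹) * t⁻¹) * t⁻¹ = w := by
      rw [show t * (t * (t * w * t⁻¹) * t⁻¹) * t⁻¹ = (t * t * t) * w * (t * t * t)⁻¹ by group,
        ht3]
      simp
    rw [h2, h] at h3
    exact absurd (mul_right_cancel (h3.trans (one_mul w).symm)) hv1

/-- Eight conjugates of an element of order three and its inverse. -/
theorem eight_le (V : Subgroup Q) [V.Normal] (hV : Nat.card V = 4)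
    (hexp : ∀ v ∈ V, v * v = 1) (hC : ∀ q : Q, (∀ v ∈ V, q * v = v * q) → q ∈ V) (t : Q)
    (ht : orderOf t = 3) (ht3 : t * t * t = 1) (htV : t ∉ V) (htt : t * t ∉ V) :
    8 ≤ Nat.card {u : Q // orderOf u = 3} := by
  have hinv : ∀ v ∈ V, v⁻¹ = v := fun v hv => inv_eq_of_mul_eq_one_right (hexp v hv)
  have hne : ∀ z ∈ V, z * t * z⁻¹ ≠ t⁻¹ := by
    intro z hz hzt
    apply htt
    have : t * t = (t * z * t⁻¹) * z := by
      calc t * t = t * t⁻¹⁻¹ := by group
        _ = t * (z * t * z⁻¹)⁻¹ := by rw [hzt]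
        _ = t * z * t⁻¹ * z⁻¹ := by group
        _ = t * z * t⁻¹ * z := by rw [hinv z hz]
    rw [this]
    exact mul_mem (Subgroup.Normal.conj_mem inferInstance z hz t) hz
  have heq : ∀ z ∈ V, z * t * z⁻¹ = t → z = 1 := by
    intro z hz hzt
    refine eq_one_of_fix V hV hexp hC t ht3 htV z hz ?_
    calc t * z * t⁻¹ = (z * t * z⁻¹) * z * t⁻¹ := by rw [hzt]
      _ = z := by group
  have hord : ∀ v : Q, ∀ b : Bool, orderOf (v * (cond b t t⁻¹) * v⁻¹) = 3 := fun v b => by
    rw [show v * cond b t t⁻¹ * v⁻¹ = MulAut.conj v (cond b t t⁻¹) from rfl, MulEquiv.orderOf_eq]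
    cases b
    · exact (orderOf_inv t).trans ht
    · exact ht
  let f : V × Bool → {u : Q // orderOf u = 3} := fun p =>
    ⟨(p.1 : Q) * (cond p.2 t t⁻¹) * (p.1 : Q)⁻¹, hord _ _⟩
  have hf : Function.Injective f := by
    rintro ⟨⟨u, hu⟩, b⟩ ⟨⟨v, hv⟩, c⟩ h
    have h' : u * cond b t t⁻¹ * u⁻¹ = v * cond c t t⁻¹ * v⁻¹ := congrArg Subtype.val h
    have hz : v⁻¹ * u ∈ V := mul_mem (inv_mem hv) hu
    have hi : (v⁻¹ * u) * cond b t t⁻¹ * (v⁻¹ * u)⁻¹ = cond c t t⁻¹ := by
      rw [show (v⁻¹ * u) * cond b t t⁻¹ * (v⁻¹ * u)⁻¹ = v⁻¹ * (u * cond b t t⁻¹ * u⁻¹) * v by group,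
        h']
      group
    have hinv' : (v⁻¹ * u) * t⁻¹ * (v⁻¹ * u)⁻¹ = ((v⁻¹ * u) * t * (v⁻¹ * u)⁻¹)⁻¹ := by group
    cases b <;> cases c
    · have h1 := heq _ hz (inv_injective (hinv'.symm.trans hi))
      obtain rfl : v = u := inv_mul_eq_one.1 h1
      rfl
    · exact absurd (inv_eq_iff_eq_inv.1 (hinv'.symm.trans hi)) (hne _ hz)
    · exact absurd hi (hne _ hz)
    · obtain rfl : v = u := inv_mul_eq_one.1 (heq _ hz hi)
      rfl
  refine le_trans ?_ (Nat.card_le_card_of_injective f hf)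
  rw [Nat.card_prod, hV, Nat.card_eq_fintype_card, Fintype.card_bool]

/-- Six conjugates of an element of order four and its inverse. -/
theorem six_le (V : Subgroup Q) [V.Normal] (hexp : ∀ v ∈ V, v * v = 1) (t x : Q)
    (ht3 : t * t * t = 1) (hfix : ∀ v ∈ V, t * v * t⁻¹ = v → v = 1) (hxV : x * x ∈ V)
    (hx1 : x * x ≠ 1) : 6 ≤ Nat.card {u : Q // orderOf u = 4} := by
  let g : Fin 3 → Q := ![1, t, t * t]
  let w : Fin 3 → Q := fun i => g i * (x * x) * (g i)⁻¹
  have hw : Function.Injective w := by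
    have h01 : t * (x * x) * t⁻¹ ≠ x * x := fun h => hx1 (hfix _ hxV h)
    have h12 : t * t * (x * x) * (t * t)⁻¹ ≠ t * (x * x) * t⁻¹ := fun h => h01 (by
      refine mul_left_cancel (a := t) (mul_right_cancel (b := t⁻¹) ?_)
      rw [show t * (t * (x * x) * t⁻¹) * t⁻¹ = t * t * (x * x) * (t * t)⁻¹ by group, h])
    have h02 : t * t * (x * x) * (t * t)⁻¹ ≠ x * x := fun h => h01 (by
      calc t * (x * x) * t⁻¹ = t * (t * t * (x * x) * (t * t)⁻¹) * t⁻¹ := by rw [h]
        _ = (t * t * t) * (x * x) * (t * t * t)⁻¹ := by group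
        _ = x * x := by rw [ht3]; group)
    have e0 : w 0 = x * x := show 1 * (x * x) * 1⁻¹ = x * x by group
    have e1 : w 1 = t * (x * x) * t⁻¹ := rfl
    have e2 : w 2 = t * t * (x * x) * (t * t)⁻¹ := rfl
    intro i j h
    fin_cases i <;> fin_cases j <;> first
      | rfl
      | exact absurd (e1.symm.trans ((h.trans e0) : _)) h01
      | exact absurd (e1.symm.trans ((h.symm.trans e0) : _)) h01
      | exact absurd (e2.symm.trans ((h.trans e0) : _)) h02
      | exact absurd (e2.symm.trans ((h.symm.trans e0) : _)) h02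
      | exact absurd (e2.symm.trans ((h.trans e1) : _)) h12
      | exact absurd (e2.symm.trans ((h.symm.trans e1) : _)) h12
  have hx4 : orderOf x = 4 := by
    refine orderOf_eq_prime_pow (p := 2) (n := 1) ?_ ?_
    · rw [pow_one, pow_two]; exact hx1
    · rw [show (2 : ℕ) ^ (1 + 1) = 2 + 2 by norm_num, pow_add, pow_two]; exact hexp _ hxV
  have hord : ∀ i : Fin 3, ∀ b : Bool, orderOf (g i * (cond b x x⁻¹) * (g i)⁻¹) = 4 := fun i b => by
    rw [show g i * cond b x x⁻¹ * (g i)⁻¹ = MulAut.conj (g i) (cond b x x⁻¹) from rfl,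
      MulEquiv.orderOf_eq]
    cases b
    · exact (orderOf_inv x).trans hx4
    · exact hx4
  let f : Fin 3 × Bool → {u : Q // orderOf u = 4} := fun p =>
    ⟨g p.1 * (cond p.2 x x⁻¹) * (g p.1)⁻¹, hord _ _⟩
  have hf : Function.Injective f := by
    rintro ⟨i, b⟩ ⟨j, c⟩ h
    have h' : g i * cond b x x⁻¹ * (g i)⁻¹ = g j * cond c x x⁻¹ * (g j)⁻¹ := congrArg Subtype.val h
    have hsq : ∀ b : Bool, cond b x x⁻¹ * cond b x x⁻¹ = x * x := fun b => by
      cases b
      · show x⁻¹ * x⁻¹ = x * x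
        rw [← mul_inv_rev, inv_eq_of_mul_eq_one_right (hexp _ hxV)]
      · rfl
    have hij : i = j := hw (by
      show g i * (x * x) * (g i)⁻¹ = g j * (x * x) * (g j)⁻¹
      calc g i * (x * x) * (g i)⁻¹
          = (g i * cond b x x⁻¹ * (g i)⁻¹) * (g i * cond b x x⁻¹ * (g i)⁻¹) := by
            rw [← hsq b]; group
        _ = (g j * cond c x x⁻¹ * (g j)⁻¹) * (g j * cond c x x⁻¹ * (g j)⁻¹) := by rw [h']
        _ = g j * (x * x) * (g j)⁻¹ := by rw [← hsq c]; group)
    subst hij
    have hxx : x ≠ x⁻¹ := fun h => hx1 (mul_eq_one_iff_eq_inv.2 h)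
    have h'' := mul_left_cancel (mul_right_cancel h')
    cases b <;> cases c <;> first | rfl | exact absurd h'' hxx | exact absurd h''.symm hxx
  refine le_trans ?_ (Nat.card_le_card_of_injective f hf)
  rw [Nat.card_prod, Nat.card_eq_fintype_card, Nat.card_eq_fintype_card, Fintype.card_bool,
    Fintype.card_fin]

/-- A group of order 24 with a self-centralising normal four subgroup has 96 power pairs. -/
theorem card_powerPairs_of_four (hQ : Nat.card Q = 24) (V : Subgroup Q) [V.Normal]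
    (hV : Nat.card V = 4) (hexp : ∀ v ∈ V, v * v = 1)
    (hC : ∀ q : Q, (∀ v ∈ V, q * v = v * q) → q ∈ V) :
    96 ≤ Nat.card {p : Q × Q // p.2 ∈ Subgroup.zpowers p.1 ∨ p.1 ∈ Subgroup.zpowers p.2} := by
  have hconj : ∀ (g v : Q), v ∈ V → g * v * g⁻¹ ∈ V := fun g v hv =>
    Subgroup.Normal.conj_mem inferInstance v hv g
  obtain ⟨t, ht⟩ := exists_prime_orderOf_dvd_card' (G := Q) 3 (by rw [hQ]; norm_num)
  have ht3 : t * t * t = 1 := by
    have := pow_orderOf_eq_one t
    rwa [ht, pow_succ, pow_two] at this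
  have ht1 : t ≠ 1 := fun h => by simp [h] at ht
  have htt : t * t ∉ V := fun h => ht1 (by
    calc t = (t * t) * (t * t) := by rw [show t * t * (t * t) = t * t * t * t by group, ht3, one_mul]
      _ = 1 := hexp _ h)
  have htV : t ∉ V := fun h => htt (mul_mem h h)
  have h8 := eight_le V hV hexp hC t ht ht3 htV htt
  obtain ⟨x, hxV, hx1⟩ : ∃ x : Q, x * x ∈ V ∧ x * x ≠ 1 := by
    have hindex : V.index = 6 := by
      have := V.card_mul_index
      rw [hV, hQ] at this
      omega
    obtain ⟨s', hs'⟩ := exists_prime_orderOf_dvd_card' (G := Q ⧸ V) 2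
      (by rw [← Subgroup.index_eq_card, hindex]; norm_num)
    obtain ⟨s, rfl⟩ := QuotientGroup.mk_surjective s'
    have hs2 : s * s ∈ V := by
      rw [← QuotientGroup.eq_one_iff, QuotientGroup.mk_mul, ← pow_two, ← hs', pow_orderOf_eq_one]
    have hsV : s ∉ V := fun h => by
      rw [(QuotientGroup.eq_one_iff s).2 h] at hs'
      simp at hs'
    by_cases hs1 : s * s = 1
    · obtain ⟨v, hv, hne⟩ : ∃ v ∈ V, s * v ≠ v * s := by
        by_contra hcon
        push Not at hcon
        exact hsV (hC s hcon)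
      refine ⟨s * v, ?_, fun h => hne ?_⟩
      · rw [show s * v * (s * v) = (s * v * s⁻¹) * (s * s) * v by group]
        exact mul_mem (mul_mem (hconj s v hv) hs2) hv
      · calc s * v = (s * v)⁻¹ := (inv_eq_of_mul_eq_one_right h).symm
          _ = v⁻¹ * s⁻¹ := mul_inv_rev _ _
          _ = v * s := by
            rw [inv_eq_of_mul_eq_one_right (hexp v hv), inv_eq_of_mul_eq_one_right hs1]
    · exact ⟨s, hs2, hs1⟩
  have h6 := six_le V hexp t x ht3 (eq_one_of_fix V hV hexp hC t ht3 htV) hxV hx1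
  have := card_powerPairs_ge 8 6 h8 h6
  omega

/-- The commuting probability is at least one sixth. -/
theorem commProb_ge_sixth {G : Type*} [Group G] [Finite G] (A B : Subgroup G) [A.Normal]
    [B.Normal] (hA : A ≤ Subgroup.center G) (_hAB : A ≤ B) (hq : A.index = 24)
    (hB : A.relIndex B = 4) (hBc : ∀ b ∈ B, (∀ c ∈ B, b * c = c * b) → b ∈ A)
    (hC : ∀ g : G, (∀ b ∈ B, g * b * g⁻¹ * b⁻¹ ∈ A) → g ∈ B) :
    (1 : ℚ) / 6 ≤ commProb G := by
  classical
  let π := QuotientGroup.mk' A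
  let V : Subgroup (G ⧸ A) := B.map π
  have : V.Normal := Subgroup.Normal.map inferInstance π (QuotientGroup.mk'_surjective A)
  have hQ : Nat.card (G ⧸ A) = 24 := by rw [← Subgroup.index_eq_card, hq]
  have hV : Nat.card V = 4 := by
    have h := Subgroup.relIndex_ker (f := π) (K := B)
    rw [QuotientGroup.ker_mk', hB] at h
    exact h.symm
  have hcomm : ∀ a ∈ A, ∀ g : G, Commute a g := fun a ha g =>
    (Subgroup.mem_center_iff.1 (hA ha) g).symm
  have hexp : ∀ v ∈ V, v * v = 1 := by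
    rintro _ ⟨b, hb, rfl⟩
    by_contra hne
    have hbV : π b ∈ V := ⟨b, hb, rfl⟩
    have hle : Subgroup.zpowers (π b) ≤ V := Subgroup.zpowers_le.2 hbV
    have hd : orderOf (π b) ∣ 4 := by
      rw [← hV, ← Nat.card_zpowers]
      exact Subgroup.card_dvd_of_le hle
    have h4 : orderOf (π b) = 4 := by
      have hle4 := Nat.le_of_dvd (by norm_num) hd
      have hn2 : ¬ orderOf (π b) ∣ 2 := fun h => hne (by
        rw [← pow_two]; exact orderOf_dvd_iff_pow_eq_one.1 h)
      interval_cases hh : orderOf (π b) <;> first | rfl | omega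
    have heq : Subgroup.zpowers (π b) = V :=
      Subgroup.eq_of_le_of_card_ge hle (by rw [hV, Nat.card_zpowers, h4])
    apply hne
    have hbA : b ∈ A := hBc b hb (fun c hc => by
      have hcm : π c ∈ Subgroup.zpowers (π b) := heq ▸ ⟨c, hc, rfl⟩
      obtain ⟨k, hk⟩ := Subgroup.mem_zpowers_iff.1 hcm
      have ha : (b ^ k)⁻¹ * c ∈ A := by
        rw [← QuotientGroup.eq_one_iff]
        show π ((b ^ k)⁻¹ * c) = 1
        rw [map_mul, map_inv, map_zpow, hk, inv_mul_cancel]
      have : Commute b (b ^ k * ((b ^ k)⁻¹ * c)) :=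
        ((Commute.refl b).zpow_right k).mul_right ((hcomm _ ha b).symm)
      rw [mul_inv_cancel_left] at this
      exact this)
    have : π b = 1 := (QuotientGroup.eq_one_iff b).2 hbA
    rw [this, mul_one]
  have hCV : ∀ q : G ⧸ A, (∀ v ∈ V, q * v = v * q) → q ∈ V := by
    intro q hq'
    obtain ⟨g, rfl⟩ := QuotientGroup.mk'_surjective A q
    refine ⟨g, hC g (fun b hb => ?_), rfl⟩
    rw [← QuotientGroup.eq_one_iff]
    show π (g * b * g⁻¹ * b⁻¹) = 1
    rw [map_mul, map_mul, map_mul, map_inv, map_inv,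
      show π g * π b = π b * π g from hq' _ ⟨b, hb, rfl⟩, mul_inv_cancel_right, mul_inv_cancel]
  have h96 := card_powerPairs_of_four hQ V hV hexp hCV
  let R := {p : (G ⧸ A) × (G ⧸ A) // p.2 ∈ Subgroup.zpowers p.1 ∨ p.1 ∈ Subgroup.zpowers p.2}
  have hlift : ∀ (u v : G), π v ∈ Subgroup.zpowers (π u) → Commute u v := by
    intro u v h
    obtain ⟨k, hk⟩ := Subgroup.mem_zpowers_iff.1 h
    have ha : (u ^ k)⁻¹ * v ∈ A := by
      rw [← QuotientGroup.eq_one_iff]
      show π ((u ^ k)⁻¹ * v) = 1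
      rw [map_mul, map_inv, map_zpow, hk, inv_mul_cancel]
    have := ((Commute.refl u).zpow_right k).mul_right ((hcomm _ ha u).symm)
    rwa [mul_inv_cancel_left] at this
  have hπ : ∀ (u : G ⧸ A) (a : A), π (u.out * (a : G)) = u := fun u a => by
    rw [map_mul, show π (a : G) = 1 from (QuotientGroup.eq_one_iff _).2 a.2, mul_one]
    exact QuotientGroup.out_eq' u
  let F : R × (A × A) → {p : G × G // Commute p.1 p.2} := fun x =>
    ⟨(x.1.1.1.out * (x.2.1 : G), x.1.1.2.out * (x.2.2 : G)), x.1.2.elim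
      (fun h => hlift _ _ (by rw [hπ, hπ]; exact h))
      (fun h => (hlift _ _ (by rw [hπ, hπ]; exact h)).symm)⟩
  have hF : Function.Injective F := by
    rintro ⟨⟨⟨u, v⟩, hr⟩, a, b⟩ ⟨⟨⟨u', v'⟩, hr'⟩, a', b'⟩ h
    have h' := Prod.ext_iff.1 (congrArg Subtype.val h)
    have h1 : u.out * (a : G) = u'.out * (a' : G) := h'.1
    have h2 : v.out * (b : G) = v'.out * (b' : G) := h'.2
    obtain rfl : u = u' := by rw [← hπ u a, ← hπ u' a', h1]
    obtain rfl : v = v' := by rw [← hπ v b, ← hπ v' b', h2]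
    obtain rfl : a = a' := Subtype.ext (mul_left_cancel h1)
    obtain rfl : b = b' := Subtype.ext (mul_left_cancel h2)
    rfl
  have hge := Nat.card_le_card_of_injective F hF
  rw [Nat.card_prod, Nat.card_prod] at hge
  have hG : Nat.card G = 24 * Nat.card A := by rw [← A.card_mul_index, hq, mul_comm]
  rw [commProb_def, hG]
  have h : (96 * (Nat.card A * Nat.card A) : ℕ) ≤ Nat.card {p : G × G // Commute p.1 p.2} :=
    le_trans (Nat.mul_le_mul_right _ h96) hge
  have h' : (96 : ℚ) * ((Nat.card A : ℚ) * Nat.card A) ≤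
      (Nat.card {p : G × G // Commute p.1 p.2} : ℚ) := by exact_mod_cast h
  have hpos : (0 : ℚ) < Nat.card A := Nat.cast_pos.2 Nat.card_pos
  rw [le_div_iff₀ (by push_cast; positivity)]
  push_cast
  nlinarith [h']

end H50.QuatBound
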