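import Cfsg.Agent.H21.Base3.Orbits
import Cfsg.Agent.H21.Base3.Main
import Cfsg.Agent.H27.Orbit.Defs

/-!
Primitive solvable permutation groups: the regular abelian normal subgroup and small bases.
-/

set_option autoImplicit false
set_option linter.style.haveILetI false
set_option linter.unusedSectionVars false

namespace H50.Orbit

open MulAction

variable {P Ω : Type*} [Group P] [MulAction P Ω]

/-- The regular abelian normal subgroup. -/
theorem exists_regular [FaithfulSMul P Ω] [Nontrivial Ω] (hs : Group.IsSolvable P)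
    [IsPreprimitive P Ω] (x₀ : Ω) :
    ∃ N : Subgroup P, N.Normal ∧ IsMulCommutative ↥N ∧
      Function.Bijective fun a : ↥N => (a : P) • x₀ := by
  haveI : Nontrivial P := by
    obtain ⟨y, hy⟩ := exists_ne x₀
    obtain ⟨u, hu⟩ := exists_smul_eq P x₀ y
    exact ⟨⟨u, 1, fun h => hy (by rw [← hu, h, one_smul])⟩⟩
  obtain ⟨N, hN, hN0, hNc⟩ := H21.Base3.exists_abelian_normal hs
  haveI := hN
  haveI := hNc
  have hfix : fixedPoints ↥N Ω ≠ Set.univ := fun h =>
    hN0 ((Subgroup.eq_bot_iff_forall _).2 fun a ha => eq_of_smul_eq_smul fun x : Ω => by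
      rw [one_smul]
      exact (h.symm.subset (Set.mem_univ x) : x ∈ fixedPoints ↥N Ω) ⟨a, ha⟩)
  haveI : IsPretransitive ↥N Ω := IsQuasiPreprimitive.isPretransitive_of_normal hfix
  refine ⟨N, hN, hNc, fun a b hab => Subtype.ext (eq_of_smul_eq_smul fun x : Ω => ?_), fun x => ?_⟩
  · obtain ⟨c, rfl⟩ := exists_smul_eq ↥N x₀ x
    show (a : P) • (c : P) • x₀ = (b : P) • (c : P) • x₀
    have hac := congrArg Subtype.val (mul_comm' a c)
    have hbc := congrArg Subtype.val (mul_comm' b c)
    simp only [Subgroup.coe_mul] at hac hbc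
    rw [← mul_smul, hac, ← mul_smul, hbc, mul_smul, mul_smul]
    exact congrArg ((c : P) • ·) hab
  · exact exists_smul_eq ↥N x₀ x

variable (x₀ : Ω) (N : Subgroup P) [N.Normal] [IsMulCommutative ↥N]

/-- Conjugation of `N` is the action on the points. -/
theorem smul_point {g : P} (hg : g • x₀ = x₀) (a : ↥N) :
    g • (a : P) • x₀ = ((MulAut.conjNormal g a : ↥N) : P) • x₀ := by
  have h : g⁻¹ • x₀ = x₀ := inv_smul_eq_iff.2 hg.symm
  rw [MulAut.conjNormal_apply, mul_smul, mul_smul, h]

/-- The centraliser of a regular abelian subgroup is itself. -/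
theorem mem_of_central [FaithfulSMul P Ω] (hbij : Function.Bijective fun a : ↥N => (a : P) • x₀)
    {g : P} (hg : ∀ a : ↥N, MulAut.conjNormal g a = a) : g ∈ N := by
  obtain ⟨c, hc⟩ := hbij.2 (g • x₀)
  suffices h : g = (c : P) from h ▸ c.2
  refine eq_of_smul_eq_smul fun x : Ω => ?_
  obtain ⟨a, rfl⟩ := hbij.2 x
  have h1 : g * (a : P) = (a : P) * g := by
    have h := congrArg Subtype.val (hg a)
    rw [MulAut.conjNormal_apply] at h
    exact mul_inv_eq_iff_eq_mul.1 h
  have h2 : (c : P) * a = a * c := congrArg Subtype.val (mul_comm' c a)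
  show g • (a : P) • x₀ = (c : P) • (a : P) • x₀
  rw [← mul_smul, h1, mul_smul, ← hc, ← mul_smul, ← mul_smul, h2]

/-- A few points, fixed together only by the kernel. -/
theorem exists_base_affine {P Ω : Type} [Group P] [Finite P] [MulAction P Ω] [FaithfulSMul P Ω]
    [Finite Ω] [Nontrivial Ω] (hs : Group.IsSolvable P) [IsPreprimitive P Ω] :
    ∃ B : Finset Ω, B.card ≤ 4 ∧ ((Nat.card Ω).Prime → B.card ≤ 2) ∧
      ∀ g : P, (∀ b ∈ B, g • b = b) → g = 1 := by
  classical
  haveI := hs
  obtain ⟨x₀, -⟩ := exists_pair_ne Ω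
  obtain ⟨N, hN, hNc, hbij⟩ := exists_regular hs x₀
  haveI := hN
  haveI := hNc
  have hcent : ∀ g : P, g • x₀ = x₀ → (∀ a : ↥N, MulAut.conjNormal g a = a) → g = 1 := by
    intro g hg0 hg
    refine eq_of_smul_eq_smul fun x : Ω => ?_
    obtain ⟨a, rfl⟩ := hbij.2 x
    show g • (a : P) • x₀ = (1 : P) • (a : P) • x₀
    rw [smul_point x₀ N hg0, hg, one_smul]
  have hfixd : ∀ g : P, g • x₀ = x₀ → ∀ a : ↥N, g • (a : P) • x₀ = (a : P) • x₀ →
      MulAut.conjNormal g a = a := fun g hg0 a ha => hbij.1 ((smul_point x₀ N hg0 a).symm.trans ha)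
  by_cases hm : (Nat.card Ω).Prime
  · obtain ⟨y, hy⟩ := exists_ne x₀
    obtain ⟨a, rfl⟩ := hbij.2 y
    refine ⟨{x₀, (a : P) • x₀}, Finset.card_le_two.trans (by norm_num), fun _ => Finset.card_le_two,
      fun g hg => ?_⟩
    have hg0 := hg x₀ (by simp)
    refine hcent g hg0 fun b => ?_
    have ha : MulAut.conjNormal g a = a := hfixd g hg0 a (hg _ (by simp))
    have hne : a ≠ 1 := fun h => hy (by simp [h])
    have : Fact (Nat.Prime (Nat.card ↥N)) := ⟨by rwa [Nat.card_eq_of_bijective _ hbij]⟩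
    obtain ⟨i, rfl⟩ := Subgroup.mem_zpowers_iff.1
      (mem_zpowers_of_prime_card (p := Nat.card ↥N) rfl hne (g' := b))
    rw [map_zpow, ha]
  · letI : CommGroup ↥N :=
      { (inferInstance : Group ↥N) with mul_comm := fun a b => mul_comm' a b }
    letI : DistribMulAction ↥(stabilizer P x₀) (Additive ↥N) :=
      { smul := fun g a => Additive.ofMul (MulAut.conjNormal (g : P) a.toMul)
        one_smul := fun a => by
          show Additive.ofMul (MulAut.conjNormal (1 : P) a.toMul) = a
          rw [map_one]; rfl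
        mul_smul := fun g h a => by
          show Additive.ofMul (MulAut.conjNormal ((g : P) * (h : P)) a.toMul) = _
          rw [map_mul]; rfl
        smul_zero := fun g => congrArg Additive.ofMul (map_one (MulAut.conjNormal (g : P)))
        smul_add := fun g a b =>
          congrArg Additive.ofMul (map_mul (MulAut.conjNormal (g : P)) a.toMul b.toMul) }
    have hirr : H35.OddBase.IsIrr ↥(stabilizer P x₀) (Additive ↥N) := by
      refine ⟨?_, fun U hU => ?_⟩
      · obtain ⟨a, ha⟩ := hbij.2 x₀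
        obtain ⟨y, hy⟩ := exists_ne x₀
        obtain ⟨b, rfl⟩ := hbij.2 y
        exact ⟨⟨Additive.ofMul a, Additive.ofMul b, fun h => hy (by
          rw [← Additive.ofMul.injective h]; exact ha)⟩⟩
      let W : Subgroup P :=
        { carrier := {w | ∃ h : w ∈ N, Additive.ofMul (⟨w, h⟩ : ↥N) ∈ U}
          one_mem' := ⟨N.one_mem, U.zero_mem⟩
          mul_mem' := fun ⟨ha, ha'⟩ ⟨hb, hb'⟩ => ⟨N.mul_mem ha hb, U.add_mem ha' hb'⟩
          inv_mem' := fun ⟨ha, ha'⟩ => ⟨N.inv_mem ha, U.neg_mem ha'⟩ }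
      haveI : W.Normal := by
        refine ⟨fun w hw u => ?_⟩
        obtain ⟨hwN, hwU⟩ := hw
        obtain ⟨a, ha⟩ := hbij.2 (u • x₀)
        have hg : ((a : P)⁻¹ * u) ∈ stabilizer P x₀ := by
          rw [mem_stabilizer_iff, mul_smul, inv_smul_eq_iff]; exact ha.symm
        have h1 := hU ⟨_, hg⟩ _ hwU
        refine ⟨hN.conj_mem w hwN u, ?_⟩
        convert h1 using 1
        refine congrArg Additive.ofMul (Subtype.ext ?_)
        show u * w * u⁻¹ = ((MulAut.conjNormal ((a : P)⁻¹ * u) (⟨w, hwN⟩ : ↥N) : ↥N) : P)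
        rw [MulAut.conjNormal_apply]
        have h2 : (a : P) * (u * w * u⁻¹) = u * w * u⁻¹ * a :=
          congrArg Subtype.val (mul_comm' a (⟨_, hN.conj_mem w hwN u⟩ : ↥N))
        calc u * w * u⁻¹ = (a : P)⁻¹ * ((a : P) * (u * w * u⁻¹)) := by group
          _ = _ := by rw [h2]; group
      by_cases hW : fixedPoints ↥W Ω = Set.univ
      · refine Or.inl ((AddSubgroup.eq_bot_iff_forall _).2 fun a ha => ?_)
        have hw : (a.toMul : P) ∈ W := ⟨a.toMul.2, ha⟩
        have h1 : (a.toMul : P) • x₀ = x₀ :=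
          (hW.symm.subset (Set.mem_univ x₀) : x₀ ∈ fixedPoints ↥W Ω) ⟨_, hw⟩
        have h2 : a.toMul = 1 := hbij.1 (by simpa using h1)
        rw [show a = Additive.ofMul a.toMul from rfl, h2]; rfl
      · haveI := IsQuasiPreprimitive.isPretransitive_of_normal (G := P) hW
        refine Or.inr ((AddSubgroup.eq_top_iff' _).2 fun a => ?_)
        obtain ⟨⟨w, hwN, hwU⟩, hw⟩ := exists_smul_eq ↥W x₀ ((a.toMul : P) • x₀)
        have h2 : (⟨w, hwN⟩ : ↥N) = a.toMul := hbij.1 hw
        rw [show a = Additive.ofMul a.toMul from rfl, ← h2]; exact hwU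
    obtain ⟨a, b, c, h⟩ :=
      H21.Base3.hasTriple_of_solvable H21.Base3.fiveTriples inferInstance hirr.isCR
    refine ⟨{x₀, (a.toMul : P) • x₀, (b.toMul : P) • x₀, (c.toMul : P) • x₀}, Finset.card_le_four,
      fun h => absurd h hm, fun g hg => ?_⟩
    have hg0 := hg x₀ (by simp)
    refine hcent g hg0 fun d => ?_
    have key : ∀ e : Additive ↥N, g • (e.toMul : P) • x₀ = (e.toMul : P) • x₀ →
        (⟨g, hg0⟩ : ↥(stabilizer P x₀)) • e = e :=
      fun e he => congrArg Additive.ofMul (hfixd g hg0 _ he)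
    exact congrArg Additive.toMul (h ⟨g, hg0⟩ (key a (hg _ (by simp))) (key b (hg _ (by simp)))
      (key c (hg _ (by simp))) (Additive.ofMul d))

/-- A few points, fixed together only by the kernel of a primitive solvable action. -/
theorem exists_base (G Ω : Type) [Group G] [Finite G] [MulAction G Ω] [Finite Ω] [Nontrivial Ω]
    (hs : Group.IsSolvable G) [IsPreprimitive G Ω] :
    ∃ B : Finset Ω, B.card ≤ 4 ∧ ((Nat.card Ω).Prime → B.card ≤ 2) ∧
      ∀ g : G, (∀ b ∈ B, g • b = b) → ∀ x : Ω, g • x = x := by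
  let π := (MulAction.toPermHom G Ω).rangeRestrict
  haveI : Group.IsSolvable G := hs
  have hPs : Group.IsSolvable ↥(MulAction.toPermHom G Ω).range :=
    Group.isSolvable_of_surjective (MonoidHom.rangeRestrict_surjective _)
  let f : Ω →ₑ[π] Ω := { toFun := id, map_smul' := fun _ _ => rfl }
  haveI : IsPreprimitive ↥(MulAction.toPermHom G Ω).range Ω :=
    IsPreprimitive.of_surjective (f := f) Function.surjective_id
  obtain ⟨B, h1, h2, h3⟩ := exists_base_affine (P := ↥(MulAction.toPermHom G Ω).range) (Ω := Ω) hPs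
  refine ⟨B, h1, h2, fun g hg x => ?_⟩
  have h := h3 (π g) hg
  exact (congrArg (fun u : ↥(MulAction.toPermHom G Ω).range => u • x) h).trans (one_smul _ x)

end H50.Orbit
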