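import Cfsg.Agent.H50.Orbit.Small

/-!
Colourings of primitive solvable permutation groups with small stabilisers.
-/

set_option autoImplicit false
set_option linter.style.haveILetI false
set_option linter.unusedSectionVars false

namespace H50.Orbit

open MulAction H27.Orbit

/-- Class sizes are prescribed and the given points lie in small classes. -/
theorem exists_col {Ω : Type} [Finite Ω] {c k : ℕ} (n : Fin c → ℕ) (hsum : ∑ i, n i = Nat.card Ω)
    (B : Finset Ω) (hB : B.card ≤ ∑ i with n i ≤ k, n i) :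
    ∃ col : Ω → Fin c, (∀ i, Nat.card {ω // col ω = i} = n i) ∧ ∀ b ∈ B, n (col b) ≤ k := by
  classical
  haveI := Fintype.ofFinite Ω
  have hcard : Nat.card Ω = Nat.card (Σ i : Fin c, Fin (n i)) := by
    rw [Nat.card_sigma, ← hsum]; simp
  let φ : Ω ≃ Σ i : Fin c, Fin (n i) := Finite.equivFinOfCardEq hcard |>.trans
    (Finite.equivFinOfCardEq rfl).symm
  let U : Finset (Σ i : Fin c, Fin (n i)) := Finset.univ.filter fun z => n z.1 ≤ k
  have hU : U.card = ∑ i with n i ≤ k, n i := by
    have : U = (Finset.univ.filter fun i : Fin c => n i ≤ k).sigma fun _ => Finset.univ := by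
      ext z; simp [U]
    rw [this, Finset.card_sigma]; simp
  obtain ⟨T, hT, hTc⟩ := Finset.exists_subset_card_eq (hB.trans hU.symm.le)
  let e : {ω // ω ∈ B} ≃ {ω // φ ω ∈ T} := Fintype.equivOfCardEq (by
    rw [Fintype.card_coe, Fintype.card_subtype, ← hTc]
    refine (Finset.card_bij' (fun z _ => φ.symm z) (fun ω _ => φ ω) ?_ ?_ ?_ ?_) <;> simp)
  let π : Equiv.Perm Ω := e.extendSubtype
  refine ⟨fun ω => (φ (π ω)).1, fun i => ?_, fun b hb => ?_⟩
  · rw [Nat.card_congr ((π.trans φ).subtypeEquiv (p := fun ω => (φ (π ω)).1 = i)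
      (q := fun z : Σ i : Fin c, Fin (n i) => z.1 = i) fun ω => Iff.rfl)]
    rw [Nat.card_congr (Equiv.sigmaSubtype i), Nat.card_fin]
  · exact (Finset.mem_filter.1 (hT (e.extendSubtype_mem b hb))).2

/-- If a base lies in small colour classes the stabiliser of the colouring is small. -/
theorem small_colStab {G Ω : Type} [Group G] [MulAction G Ω] [Finite Ω] (hs : Group.IsSolvable G)
    {B : Finset Ω} (hbase : ∀ g : G, (∀ b ∈ B, g • b = b) → ∀ x : Ω, g • x = x) {c k a : ℕ}
    (hk : ∀ (H Y : Type) [Group H] [MulAction H Y] [Finite Y], Group.IsSolvable H →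
      Nat.card Y ≤ k → DlActs H Y a)
    (col : Ω → Fin c) (hsmall : ∀ b ∈ B, Nat.card {ω // col ω = col b} ≤ k) :
    ∀ g ∈ dIn (colStab (G := G) col) a, ∀ ω : Ω, g • ω = ω := by
  intro g hg
  obtain ⟨hgS, hgd⟩ := mem_dIn.1 hg
  refine hbase g fun b hb => ?_
  let C : SubMulAction ↥(colStab (G := G) col) Ω :=
    ⟨{ω | col ω = col b}, fun u ω hω => by
      show col ((u : G) • ω) = col b
      rw [u.2 ω]; exact hω⟩
  haveI := hs
  exact congrArg Subtype.val
    (hk ↥(colStab (G := G) col) ↥C inferInstance (hsmall b hb) _ hgd ⟨b, rfl⟩)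

theorem colSpread_of_sizes {G Ω : Type} [Group G] [MulAction G Ω] [Finite Ω]
    (hs : Group.IsSolvable G) {B : Finset Ω}
    (hbase : ∀ g : G, (∀ b ∈ B, g • b = b) → ∀ x : Ω, g • x = x) {K c k a : ℕ}
    (hk : ∀ (H Y : Type) [Group H] [MulAction H Y] [Finite Y], Group.IsSolvable H →
      Nat.card Y ≤ k → DlActs H Y a)
    (n : Fin K → Fin c → ℕ) (hinj : Function.Injective n) (hsum : ∀ i, ∑ j, n i j = Nat.card Ω)
    (hB : ∀ i, B.card ≤ ∑ j with n i j ≤ k, n i j) : ColSpread K a c G Ω := by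
  choose col hcol1 hcol2 using fun i => exists_col (n i) (hsum i) B (hB i)
  refine ⟨col, fun i => small_colStab hs hbase hk (col i) fun b hb => ?_, fun i j g h => hinj ?_⟩
  · rw [hcol1]; exact hcol2 i b hb
  · funext x
    rw [← hcol1 i x, ← hcol1 j x]
    exact Nat.card_congr ((MulAction.toPerm g).subtypeEquiv fun ω => by
      simp [h ω])

/-- When all classes are small every set lies in small classes. -/
theorem le_sum_small {c k m : ℕ} (n : Fin c → ℕ) (hsum : ∑ j, n j = m) (hle : ∀ j, n j ≤ k)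
    {b : ℕ} (hb : b ≤ m) : b ≤ ∑ j with n j ≤ k, n j := by
  rwa [Finset.filter_true_of_mem fun j _ => hle j, hsum]

/-- Five colourings with three colours. -/
theorem colSpread_three {G Ω : Type} [Group G] [MulAction G Ω] [Finite Ω] [Nontrivial Ω]
    (hs : Group.IsSolvable G) {B : Finset Ω} (hB4 : B.card ≤ 4)
    (hbase : ∀ g : G, (∀ b ∈ B, g • b = b) → ∀ x : Ω, g • x = x) : ColSpread 5 2 3 G Ω := by
  have h2 : 2 ≤ Nat.card Ω := Finite.one_lt_card_iff_nontrivial.2 inferInstance
  have hBm : B.card ≤ Nat.card Ω := by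
    haveI := Fintype.ofFinite Ω
    rw [Nat.card_eq_fintype_card]; exact Finset.card_le_univ B
  generalize hm : Nat.card Ω = m at *
  by_cases h7 : m ≤ 7
  · obtain ⟨n, hinj, hsum, hle⟩ : ∃ n : Fin 5 → Fin 3 → ℕ, Function.Injective n ∧
        (∀ i, ∑ j, n i j = m) ∧ ∀ i j, n i j ≤ 3 := by
      interval_cases m
      · exact ⟨![![2, 0, 0], ![0, 2, 0], ![0, 0, 2], ![1, 1, 0], ![1, 0, 1]], by decide, by decide,
          by decide⟩
      · exact ⟨![![3, 0, 0], ![0, 3, 0], ![0, 0, 3], ![1, 1, 1], ![2, 1, 0]], by decide, by decide,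
          by decide⟩
      · exact ⟨![![3, 1, 0], ![1, 3, 0], ![3, 0, 1], ![1, 0, 3], ![2, 1, 1]], by decide, by decide,
          by decide⟩
      · exact ⟨![![3, 2, 0], ![2, 3, 0], ![3, 0, 2], ![2, 0, 3], ![2, 2, 1]], by decide, by decide,
          by decide⟩
      · exact ⟨![![3, 3, 0], ![3, 0, 3], ![0, 3, 3], ![3, 2, 1], ![2, 2, 2]], by decide, by decide,
          by decide⟩
      · exact ⟨![![3, 3, 1], ![3, 1, 3], ![1, 3, 3], ![3, 2, 2], ![2, 3, 2]], by decide, by decide,
          by decide⟩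
    exact colSpread_of_sizes hs hbase dlActs_three n hinj (fun i => (hsum i).trans hm.symm)
      fun i => le_sum_small (n i) (hsum i) (hle i) hBm
  refine colSpread_of_sizes hs hbase dlActs_three
    ![![m - 4, 1, 3], ![m - 4, 3, 1], ![1, m - 4, 3], ![3, m - 4, 1], ![1, 3, m - 4]]
    (fun i j h => ?_) (fun i => ?_) fun i => ?_
  · have e0 := congrFun h 0
    have e1 := congrFun h 1
    fin_cases i <;> fin_cases j <;> first | rfl | (simp at e0 e1 <;> omega)
  · rw [hm]; fin_cases i <;> simp [Fin.sum_univ_three] <;> omega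
  · fin_cases i <;> simp [Finset.sum_filter, Fin.sum_univ_three] <;> (try split_ifs) <;> omega

/-- Two colours. -/
theorem colSpread_two {G Ω : Type} [Group G] [MulAction G Ω] [Finite Ω] [Nontrivial Ω]
    (hs : Group.IsSolvable G) {B : Finset Ω} (hB4 : B.card ≤ 4)
    (hB11 : (Nat.card Ω).Prime → B.card ≤ 2)
    (hbase : ∀ g : G, (∀ b ∈ B, g • b = b) → ∀ x : Ω, g • x = x) :
    ColSpread 3 2 2 G Ω ∨ ColSpread 5 4 2 G Ω := by
  have h2 : 2 ≤ Nat.card Ω := Finite.one_lt_card_iff_nontrivial.2 inferInstance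
  have hBm : B.card ≤ Nat.card Ω := by
    haveI := Fintype.ofFinite Ω
    rw [Nat.card_eq_fintype_card]; exact Finset.card_le_univ B
  generalize hm : Nat.card Ω = m at *
  by_cases h3 : m ≤ 3
  · left
    refine colSpread_of_sizes hs hbase dlActs_three
      ![![0, m], ![1, m - 1], ![2, m - 2]] (fun i j h => ?_) (fun i => ?_) fun i => ?_
    · have e0 := congrFun h 0
      fin_cases i <;> fin_cases j <;> first | rfl | (simp at e0)
    · rw [hm]; fin_cases i <;> simp [Fin.sum_univ_two] <;> omega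
    · refine le_sum_small _ (?_ : _ = m) (fun j => ?_) hBm
      · fin_cases i <;> simp [Fin.sum_univ_two] <;> omega
      · fin_cases i <;> fin_cases j <;> simp <;> omega
  right
  obtain ⟨s, hinj, hle, hsmall⟩ : ∃ s : Fin 5 → ℕ, Function.Injective s ∧ (∀ i, s i ≤ m) ∧
      ∀ i, (s i ≤ 7 ∧ B.card ≤ s i) ∨ (m - s i ≤ 7 ∧ B.card ≤ m - s i) ∨
        (s i ≤ 7 ∧ m - s i ≤ 7) := by
    by_cases h7 : m ≤ 7
    · exact ⟨fun i => i, fun i j h => Fin.ext h, fun i => by dsimp only; omega,
        fun i => Or.inr (Or.inr (by dsimp only; omega))⟩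
    by_cases h11 : m = 11
    · have : B.card ≤ 2 := hB11 (by rw [h11]; norm_num)
      exact ⟨fun i => i + 2, fun i j h => Fin.ext (by simpa using h), fun i => by dsimp only; omega,
        fun i => Or.inl (by dsimp only; omega)⟩
    by_cases h14 : 12 ≤ m ∧ m ≤ 14
    · refine ⟨![4, 5, 6, 7, m - 4], fun i j h => ?_, fun i => ?_, fun i => ?_⟩
      · fin_cases i <;> fin_cases j <;> first | rfl | (simp at h <;> omega)
      · fin_cases i <;> simp <;> omega
      · fin_cases i <;> simp <;> omega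
    refine ⟨![4, 5, 6, 7, m - 7], fun i j h => ?_, fun i => ?_, fun i => ?_⟩
    · fin_cases i <;> fin_cases j <;> first | rfl | (simp at h <;> omega)
    · fin_cases i <;> simp <;> omega
    · fin_cases i <;> simp <;> omega
  refine colSpread_of_sizes hs hbase dlActs_seven (fun i => ![s i, m - s i])
    (fun i j h => hinj (by simpa using congrFun h 0)) (fun i => ?_) fun i => ?_
  · have := hle i
    rw [hm]; simp [Fin.sum_univ_two]; omega
  · have := hle i
    have := hsmall i
    rw [Finset.sum_filter, Fin.sum_univ_two]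
    simp only [Matrix.cons_val_zero, Matrix.cons_val_one]
    by_cases h1 : s i ≤ 7 <;> by_cases h2' : m - s i ≤ 7 <;> simp only [h1, h2', if_true, if_false] <;>
      omega

/-- Primitive solvable permutation groups have enough colourings. -/
theorem primColours : PrimColours := by
  intro G Ω _ _ _ _ _ hs hprim
  obtain ⟨B, hB4, hB2, hbase⟩ := exists_base G Ω hs
  refine ⟨?_, colSpread_three hs hB4 hbase, colSpread_two hs hB4 hB2 hbase⟩
  obtain ⟨f, hf1, hf2⟩ := H21.Base3.hasCol_five _ G Ω hs rfl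
  exact ⟨f, fun i g hg => hf1 i g (mem_dIn.1 hg).1, fun i j g h => (hf2 j i g h).symm⟩

end H50.Orbit
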