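import Cfsg.Agent.H50.Orbit.Affine

/-!
Derived lengths of solvable actions on at most seven points.
-/

set_option autoImplicit false
set_option linter.style.haveILetI false
set_option linter.unusedSectionVars false

namespace H50.Orbit

open MulAction H27.Orbit

theorem mem_dIn {G : Type*} [Group G] {H : Subgroup G} {n : ℕ} {g : G} :
    g ∈ dIn H n ↔ ∃ h : g ∈ H, (⟨g, h⟩ : ↥H) ∈ derivedSeries ↥H n :=
  ⟨fun h => by obtain ⟨u, hu, rfl⟩ := h; exact ⟨u.2, hu⟩,
    fun ⟨h, h'⟩ => ⟨⟨g, h⟩, h', rfl⟩⟩

theorem dlActs_mono {G X : Type*} [Group G] [MulAction G X] {a b : ℕ} (hab : a ≤ b)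
    (h : DlActs G X a) : DlActs G X b :=
  fun g hg => h g (derivedSeries_antitone G hab hg)

theorem dlActs_of_hom {G X M : Type*} [Group G] [MulAction G X] [Group M] (f : G →* M)
    (hf : ∀ g, f g = 1 → ∀ x : X, g • x = x) {a : ℕ} (h : derivedSeries M a = ⊥) : DlActs G X a :=
  fun g hg => hf g (Subgroup.mem_bot.1
    (h ▸ map_derivedSeries_le_derivedSeries f a (Subgroup.mem_map_of_mem f hg)))

theorem dlActs_of_orbits {G X : Type*} [Group G] [MulAction G X] {a : ℕ}
    (h : ∀ x : X, DlActs G ↥(orbit G x) a) : DlActs G X a :=
  fun g hg x => congrArg Subtype.val (h x g hg ⟨x, mem_orbit_self x⟩)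

/-- The derived series descends into a subgroup. -/
theorem derivedSeries_add_le {G : Type*} [Group G] {S : Subgroup G} {a : ℕ}
    (h : derivedSeries G a ≤ S) (i : ℕ) :
    derivedSeries G (a + i) ≤ (derivedSeries ↥S i).map S.subtype := by
  induction i with
  | zero =>
    rw [derivedSeries_zero, ← MonoidHom.range_eq_map, Subgroup.range_subtype]
    exact h
  | succ i ih =>
    rw [← Nat.add_assoc, derivedSeries_succ, derivedSeries_succ, Subgroup.map_commutator]
    exact Subgroup.commutator_mono ih ih

/-- The points of a fibre. -/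
def fibre {G X Y : Type*} [Group G] [MulAction G X] [MulAction G Y] (π : X → Y)
    (hπ : ∀ (g : G) x, π (g • x) = g • π x) (y : Y) : SubMulAction ↥(stabilizer G y) X :=
  ⟨{x | π x = y}, fun g x hx => by
    show π ((g : G) • x) = y
    rw [hπ, show π x = y from hx]; exact g.2⟩

theorem dlActs_blocks {G X Y : Type*} [Group G] [MulAction G X] [MulAction G Y] (π : X → Y)
    (hπ : ∀ (g : G) x, π (g • x) = g • π x) {a b : ℕ} (hY : DlActs G Y a)
    (hfib : ∀ y, DlActs ↥(stabilizer G y) ↥(fibre π hπ y) b) : DlActs G X (a + b) := by
  intro g hg x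
  obtain ⟨u, hu, rfl⟩ := derivedSeries_add_le (S := stabilizer G (π x))
    (fun w hw => hY w hw (π x)) b hg
  exact congrArg Subtype.val (hfib (π x) u hu ⟨x, rfl⟩)

/-- Solvable groups act on at most three points with derived length at most two, on at most seven
points with derived length at most four. -/
theorem dlActs_small (n : ℕ) : ∀ (G X : Type) [Group G] [MulAction G X] [Finite X],
    Group.IsSolvable G → Nat.card X = n → n ≤ 7 → DlActs G X (if n ≤ 3 then 2 else 4) := by
  induction n using Nat.strong_induction_on with
  | _ n ih =>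
    intro G X _ _ _ hs hn h7
    haveI := hs
    classical
    have hrec : ∀ (H Y : Type) [Group H] [MulAction H Y] [Finite Y],
        Group.IsSolvable H → Nat.card Y < n → DlActs H Y (if n ≤ 3 then 2 else 4) := by
      intro H Y _ _ _ hH hY
      refine dlActs_mono ?_ (ih _ hY H Y hH rfl (by omega))
      split_ifs <;> omega
    rcases subsingleton_or_nontrivial X with hX | hX
    · exact fun g _ x => Subsingleton.elim _ _
    by_cases htrans : IsPretransitive G X
    swap
    · refine dlActs_of_orbits fun x => hrec G ↥(orbit G x) hs ?_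
      obtain ⟨y, hy⟩ : ∃ y, y ∉ orbit G x := by
        by_contra h
        push Not at h
        exact htrans ((isPretransitive_iff_orbit_eq_univ x).2 (Set.eq_univ_of_forall h))
      exact hn ▸ Finite.card_subtype_lt (x := y) hy
    haveI := htrans
    obtain ⟨x₀, -⟩ := exists_pair_ne X
    have hidx : (stabilizer G x₀).index = Nat.card X := index_stabilizer_of_transitive G x₀
    haveI : (stabilizer G x₀).FiniteIndex := ⟨by rw [hidx]; exact Nat.card_pos.ne'⟩
    by_cases hprim : IsPreprimitive G X
    swap
    · -- blocks
      obtain ⟨M, hHM, hM⟩ : ∃ M : Subgroup G, stabilizer G x₀ < M ∧ M ≠ ⊤ := by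
        by_contra h
        push Not at h
        refine hprim ((isCoatom_stabilizer_iff_preprimitive G x₀).1 ⟨fun e => ?_, h⟩)
        rw [e, Subgroup.index_top] at hidx
        exact (Finite.one_lt_card_iff_nontrivial.2 hX).ne hidx
      haveI : M.FiniteIndex := Subgroup.finiteIndex_of_le hHM.le
      choose rep hrep using fun x => exists_smul_eq G x₀ x
      let π : X → G ⧸ M := fun x => (rep x : G ⧸ M)
      have hπ : ∀ (g : G) x, π (g • x) = g • π x := fun g x => by
        show (rep (g • x) : G ⧸ M) = g • (rep x : G ⧸ M)
        rw [MulAction.Quotient.smul_mk, QuotientGroup.eq]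
        refine hHM.le ?_
        rw [mem_stabilizer_iff, mul_smul, inv_smul_eq_iff, hrep, smul_eq_mul, mul_smul, hrep]
      haveI : Finite (G ⧸ M) := Subgroup.finite_quotient_of_finiteIndex
      let y₀ : G ⧸ M := π x₀
      have hfib : ∀ y, Nat.card {x // π x = y} = Nat.card {x // π x = y₀} := fun y => by
        obtain ⟨g, hg⟩ := exists_smul_eq G y₀ y
        exact (Nat.card_congr ((MulAction.toPerm g).subtypeEquiv fun x => by
          show π x = y₀ ↔ π (g • x) = y
          rw [hπ, ← hg, smul_left_cancel_iff])).symm
      have hprod : n = Nat.card (G ⧸ M) * Nat.card {x // π x = y₀} := by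
        haveI := Fintype.ofFinite (G ⧸ M)
        rw [← hn, ← Nat.card_congr (Equiv.sigmaFiberEquiv π), Nat.card_sigma]
        simp [hfib, Nat.card_eq_fintype_card]
      have h2 : 2 ≤ Nat.card (G ⧸ M) := Subgroup.one_lt_index_of_ne_top hM
      have h3 : Nat.card (G ⧸ M) < n := by
        rw [← hn, ← hidx]; exact Subgroup.index_strictAnti hHM
      have h4 : 2 ≤ Nat.card {x // π x = y₀} := by
        rcases Nat.lt_or_ge (Nat.card {x // π x = y₀}) 2 with h | h
        · interval_cases (Nat.card {x // π x = y₀}) <;> omega
        · exact h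
      have hY3 : Nat.card (G ⧸ M) ≤ 3 := by nlinarith
      have hF3 : ∀ y, Nat.card {x // π x = y} ≤ 3 := fun y => by rw [hfib]; nlinarith
      have hlt : ∀ y, Nat.card {x // π x = y} < n := fun y => by rw [hfib]; nlinarith
      have key := dlActs_blocks π hπ (a := 2) (b := 2)
        (by simpa [hY3] using ih _ h3 G (G ⧸ M) hs rfl (by omega))
        (fun y => by
          have := ih _ (hlt y) ↥(stabilizer G y) ↥(fibre π hπ y) inferInstance rfl
            (by have := hlt y; omega)
          simpa [hF3 y] using this)
      exact dlActs_mono (by split_ifs <;> nlinarith) key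
    -- primitive: pass to the permutation group
    let f := (MulAction.toPermHom G X).rangeRestrict
    suffices hP : DlActs ↥(MulAction.toPermHom G X).range X (if n ≤ 3 then 2 else 4) from
      fun g hg x => hP (f g)
        (map_derivedSeries_le_derivedSeries f _ (Subgroup.mem_map_of_mem f hg)) x
    have hPs : Group.IsSolvable ↥(MulAction.toPermHom G X).range :=
      Group.isSolvable_of_surjective (MonoidHom.rangeRestrict_surjective _)
    let e : X →ₑ[f] X := { toFun := id, map_smul' := fun _ _ => rfl }
    haveI : IsPreprimitive ↥(MulAction.toPermHom G X).range X :=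
      IsPreprimitive.of_surjective (f := e) Function.surjective_id
    generalize (MulAction.toPermHom G X).range = P at hPs this ⊢
    obtain ⟨N, hN, hNc, hbij⟩ := exists_regular hPs x₀
    haveI := hN
    haveI := hNc
    letI : CommGroup ↥N := { (inferInstance : Group ↥N) with mul_comm := fun a b => mul_comm' a b }
    haveI : Finite ↥N := Finite.of_injective _ hbij.1
    have hNn : Nat.card ↥N = n := (Nat.card_eq_of_bijective _ hbij).trans hn
    have hstep : ∀ k, (∀ g ∈ derivedSeries ↥P k, ∀ a : ↥N, MulAut.conjNormal g a = a) →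
        DlActs ↥P X (k + 1) := by
      intro k hk g hg x
      have hle : derivedSeries ↥P k ≤ N := fun u hu => mem_of_central x₀ N hbij (hk u hu)
      have h1 : g = 1 := by
        have h2 := Subgroup.commutator_mono hle hle (by rwa [derivedSeries_succ] at hg :
          g ∈ ⁅derivedSeries ↥P k, derivedSeries ↥P k⁆)
        rwa [Subgroup.commutator_eq_bot_iff_le_centralizer.2 (Subgroup.le_centralizer N),
          Subgroup.mem_bot] at h2
      rw [h1, one_smul]
    by_cases hsq : Squarefree n
    · haveI : IsZGroup ↥N := IsZGroup.of_squarefree (hNn ▸ hsq)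
      haveI : IsCyclic ↥N := inferInstance
      letI := (IsCyclic.mulAutMulEquiv ↥N).toMonoidHom.commGroupOfInjective
        (IsCyclic.mulAutMulEquiv ↥N).injective
      refine dlActs_mono (by split_ifs <;> omega) (hstep 1 fun g hg a => ?_)
      rw [derivedSeries_one] at hg
      have := Abelianization.commutator_subset_ker (MulAut.conjNormal (H := N)) hg
      rw [MonoidHom.mem_ker] at this
      rw [this]; rfl
    have h4 : n = 4 := by
      have h2 : 1 < n := hn ▸ Finite.one_lt_card_iff_nontrivial.2 hX
      interval_cases n
      all_goals first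
        | rfl
        | exact absurd (by decide +kernel) hsq
    -- the action on the three non-trivial translations
    letI : MulAction ↥P {a : ↥N // a ≠ 1} :=
      { smul := fun g a => ⟨MulAut.conjNormal g a.1, fun h => a.2
          ((MulAut.conjNormal g).injective (h.trans (map_one _).symm))⟩
        one_smul := fun a => Subtype.ext (by
          show MulAut.conjNormal (1 : ↥P) a.1 = a.1
          rw [map_one]; rfl)
        mul_smul := fun g h a => Subtype.ext (by
          show MulAut.conjNormal (g * h) a.1 = _
          rw [map_mul]; rfl) }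
    have h3 : Nat.card {a : ↥N // a ≠ 1} = 3 := by
      have := Fintype.ofFinite ↥N
      rw [Nat.card_eq_fintype_card, Fintype.card_subtype_compl, Fintype.card_subtype_eq,
        ← Nat.card_eq_fintype_card, hNn, h4]
    have hsmall := ih 3 (by omega) ↥P {a : ↥N // a ≠ 1} hPs h3 (by norm_num)
    rw [if_pos le_rfl] at hsmall
    refine dlActs_mono (by split_ifs <;> omega) (hstep 2 fun g hg a => ?_)
    by_cases ha : a = 1
    · rw [ha, map_one]
    · exact congrArg Subtype.val (hsmall g hg ⟨a, ha⟩)

theorem dlActs_three (G X : Type) [Group G] [MulAction G X] [Finite X] (hs : Group.IsSolvable G)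
    (h : Nat.card X ≤ 3) : DlActs G X 2 := by
  simpa [h] using dlActs_small _ G X hs rfl (by omega)

theorem dlActs_seven (G X : Type) [Group G] [MulAction G X] [Finite X] (hs : Group.IsSolvable G)
    (h : Nat.card X ≤ 7) : DlActs G X 4 :=
  dlActs_mono (by split_ifs <;> omega) (dlActs_small _ G X hs rfl h)

end H50.Orbit
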